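import Groth.Agent.Coherent.K422.UnifVanish
import Groth.Agent.CohqB.TwistMono
import Groth.Agent.CohqB.FormalGenB
import Groth.Agent.CurvesC.DualDeg

/-!
# The graded family `I^p ⊗ E^p`

`I` a quasi-coherent ideal sheaf, `E` an invertible module, `s` a global section of `I ⊗ E`:
multiplication by `s` is a morphism `xOp : I^p ⊗ E^p ⟶ I^(p+1) ⊗ E^(p+1)`. If `I ⊗ E` is globally generated,
the family `I^p ⊗ E^p` with these operators is generated in degree zero (`exists_gr`).
-/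

set_option autoImplicit false
universe u

open CategoryTheory CategoryTheory.Limits AlgebraicGeometry Opposite TopologicalSpace

namespace K422.PowTwist

open Groth.Agent Groth.Agent.FormalB.GrAbs Groth.Agent.CohqB.SerTw Groth.Agent.CohqB.FiniteType2
open Groth.Agent.Fdesc.LocGen Groth.Agent.Ega2

variable {X : Scheme.{u}}

/-- `K ⊗ T ⟶ T`. -/
noncomputable def tI (K : X.IdealSheafData) (T : X.Modules) :
    CohB1.tensorMod (ClSub.idealMod K) T ⟶ T :=
  (tw T).map (ClSub.idealModι K) ≫ (Tens.lunit T).hom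

/-- The function underlying a section of the ideal sheaf. -/
noncomputable def val {K : X.IdealSheafData} {U : X.Opens} (a : Γ(ClSub.idealMod K, U)) : Γ(X, U) :=
  (ClSub.idealModι K).app U a

theorem val_smul {K : X.IdealSheafData} {U : X.Opens} (r : Γ(X, U)) (a : Γ(ClSub.idealMod K, U)) :
    val (r • a) = r * val a :=
  Scheme.Modules.Hom.app_smul (ClSub.idealModι K) r a

theorem val_res {K : X.IdealSheafData} {U V : X.Opens} (h : V ≤ U) (a : Γ(ClSub.idealMod K, U)) :
    val (res _ h a) = ores h (val a) := app_res (ClSub.idealModι K) h a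

theorem val_injective {K : X.IdealSheafData} {U : X.Opens} :
    Function.Injective (val (K := K) (U := U)) :=
  CohqA.IdealMod.idealModι_app_injective K U

theorem exists_val_iff {K : X.IdealSheafData} (U : X.affineOpens) (s : Γ(X, U.1)) :
    (∃ a : Γ(ClSub.idealMod K, U.1), val a = s) ↔ s ∈ K.ideal U :=
  CohqA.IdealMod.exists_idealModι_app_iff K U s

theorem tI_tmul {K : X.IdealSheafData} {T : X.Modules} {U : X.Opens} (a : Γ(ClSub.idealMod K, U))
    (τ : Γ(T, U)) : (tI K T).app U (tmul a τ) = val a • τ := by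
  change (Tens.lunit T).hom.app U (((tw T).map (ClSub.idealModι K)).app U (tmul a τ)) = _
  rw [tw_map_tmul]
  exact Tens.lunit_hom_tmul (val a) τ

theorem iso_injective {M N : X.Modules} (e : M ≅ N) (U : X.Opens) :
    Function.Injective (e.hom.app U) := by
  intro a b hab
  have h2 := congrArg (e.inv.app U) hab
  rwa [TensPow.symm_app_app, TensPow.symm_app_app] at h2

theorem tI_injective (K : X.IdealSheafData) {T : X.Modules} (hT : PicF.IsInvertible T) (U : X.Opens) :
    Function.Injective ((tI K T).app U) := by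
  intro a b hab
  exact CohqB.TwistMono.mapT_injective (ClSub.idealModι K)
    (CohqA.IdealMod.idealModι_app_injective K) hT U (iso_injective (Tens.lunit T) U hab)

theorem mono_tI (K : X.IdealSheafData) {T : X.Modules} (hT : PicF.IsInvertible T) : Mono (tI K T) := by
  refine ⟨fun g h hgh => ?_⟩
  ext U a
  refine tI_injective K hT U ?_
  exact congr(($hgh).app U a)

/-- Factoring through a morphism which is injective on sections, locally. -/
theorem exists_factor {A B C : X.Modules} (φ : A ⟶ C) (j : B ⟶ C) [Mono j]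
    (h : ∀ (U : X.Opens) (a : Γ(A, U)) (x : X), x ∈ U → ∃ (W : X.Opens) (hW : W ≤ U) (b : Γ(B, W)),
      x ∈ W ∧ j.app W b = res C hW (φ.app U a)) : ∃ ψ : A ⟶ B, ψ ≫ j = φ := by
  refine ⟨Abelian.monoLift j φ ?_, Abelian.monoLift_comp j φ _⟩
  ext U a
  choose W hW b hxW hb using fun x : U => h U a x.1 x.2
  refine res_ext _ W hW (fun x hx => Opens.mem_iSup.mpr ⟨⟨x, hx⟩, hxW ⟨x, hx⟩⟩) fun x => ?_
  change res _ (hW x) ((cokernel.π j).app U (φ.app U a)) = res _ (hW x) 0
  rw [map_zero, ← app_res, ← hb]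
  exact congr(($(cokernel.condition j)).app (W x) (b x))

section op

variable {E : X.Modules} {I : X.IdealSheafData}

/-- Multiplication by the global section of `E` attached to a section of `I ⊗ E`. -/
noncomputable def mulE (s : Γ(CohB1.tensorMod (ClSub.idealMod I) E, ⊤)) (T : X.Modules) :
    T ⟶ CohB1.tensorMod T E := mulSec ((tI I E).app ⊤ s) T

theorem mulE_app (s : Γ(CohB1.tensorMod (ClSub.idealMod I) E, ⊤)) (T : X.Modules) {U : X.Opens}
    (t : Γ(T, U)) (b : Γ(ClSub.idealMod I, U)) (e : Γ(E, U)) (hb : res _ le_top s = tmul b e) :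
    (mulE s T).app U t = val b • tmul t e := by
  rw [mulE, mulSec_app, ← app_res, hb, tI_tmul, tmul_smul]

/-- `mulE` on the powers of `E`. -/
noncomputable def mulP (s : Γ(CohB1.tensorMod (ClSub.idealMod I) E, ⊤)) (p : ℕ) :
    CohB1.tensorPow E p ⟶ CohB1.tensorPow E (p + 1) := mulE s (CohB1.tensorPow E p)

theorem mulP_app (s : Γ(CohB1.tensorMod (ClSub.idealMod I) E, ⊤)) (p : ℕ) {U : X.Opens}
    (c : Γ(X, U)) (b : Γ(ClSub.idealMod I, U)) (e : Γ(E, U)) (hb : res _ le_top s = tmul b e) :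
    (mulP s p).app U (c • pow e p) = (c * val b) • pow e (p + 1) := by
  refine (mulE_app s (CohB1.tensorPow E p) _ b e hb).trans ?_
  rw [smul_tmul, smul_smul, mul_comm]
  rfl

theorem exists_xOp (hE : PicF.IsInvertible E) (s : Γ(CohB1.tensorMod (ClSub.idealMod I) E, ⊤)) (p : ℕ) :
    ∃ ψ : CohB1.tensorMod (ClSub.idealMod (I ^ p)) (CohB1.tensorPow E p) ⟶
      CohB1.tensorMod (ClSub.idealMod (I ^ (p + 1))) (CohB1.tensorPow E (p + 1)),
      ψ ≫ tI (I ^ (p + 1)) (CohB1.tensorPow E (p + 1)) =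
        tI (I ^ p) (CohB1.tensorPow E p) ≫ mulP s p := by
  have := mono_tI (I ^ (p + 1)) (isInvertible_tensorPow hE (p + 1))
  refine exists_factor _ _ fun U a x hx => ?_
  obtain ⟨W, e, hxW, hWU, hW, he⟩ := TensGen.exists_affine_gen hE x hx
  obtain ⟨α, hα⟩ := TensGen.exists_eq_tmul (he.pow p) (res _ hWU a)
  obtain ⟨b, hb⟩ := TensGen.exists_eq_tmul he (res _ (le_top : W ≤ ⊤) s)
  have h1 : val α * val b ∈ (I ^ (p + 1)).ideal ⟨W, hW⟩ := by
    have ha := (exists_val_iff ⟨W, hW⟩ (val α)).mp ⟨α, rfl⟩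
    have hb := (exists_val_iff ⟨W, hW⟩ (val b)).mp ⟨b, rfl⟩
    have h2 : (I ^ (p + 1)).ideal ⟨W, hW⟩ = (I ^ p).ideal ⟨W, hW⟩ * I.ideal ⟨W, hW⟩ := by
      rw [pow_succ]; rfl
    rw [h2]
    exact Ideal.mul_mem_mul ha hb
  obtain ⟨γ, hγ⟩ := (exists_val_iff ⟨W, hW⟩ _).mpr h1
  refine ⟨W, hWU, tmul γ (pow e (p + 1)), hxW, ?_⟩
  change _ = res _ hWU ((mulP s p).app U ((tI (I ^ p) (CohB1.tensorPow E p)).app U a))
  rw [tI_tmul, ← app_res, ← app_res, hα, tI_tmul, mulP_app s p _ b e hb, hγ]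

/-- Multiplication by `s` on `I^p ⊗ E^p`. -/
noncomputable def xOp (hE : PicF.IsInvertible E) (s : Γ(CohB1.tensorMod (ClSub.idealMod I) E, ⊤))
    (p : ℕ) : CohB1.tensorMod (ClSub.idealMod (I ^ p)) (CohB1.tensorPow E p) ⟶
      CohB1.tensorMod (ClSub.idealMod (I ^ (p + 1))) (CohB1.tensorPow E (p + 1)) :=
  (exists_xOp hE s p).choose

theorem xOp_tI (hE : PicF.IsInvertible E) (s : Γ(CohB1.tensorMod (ClSub.idealMod I) E, ⊤)) (p : ℕ) :
    xOp hE s p ≫ tI (I ^ (p + 1)) (CohB1.tensorPow E (p + 1)) =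
      tI (I ^ p) (CohB1.tensorPow E p) ≫ mulP s p :=
  (exists_xOp hE s p).choose_spec

theorem mulE_comm (hE : PicF.IsInvertible E) (s s' : Γ(CohB1.tensorMod (ClSub.idealMod I) E, ⊤))
    (T : X.Modules) :
    mulE s T ≫ mulE s' (CohB1.tensorMod T E) = mulE s' T ≫ mulE s (CohB1.tensorMod T E) := by
  ext U t
  choose W e hxW hWU hW he using fun x : U => TensGen.exists_affine_gen hE x.1 x.2
  refine res_ext _ W hWU (fun x hx => Opens.mem_iSup.mpr ⟨⟨x, hx⟩, hxW ⟨x, hx⟩⟩) fun x => ?_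
  change res _ (hWU x) ((mulE s' (CohB1.tensorMod T E)).app U ((mulE s T).app U t)) =
    res _ (hWU x) ((mulE s (CohB1.tensorMod T E)).app U ((mulE s' T).app U t))
  obtain ⟨b, hb⟩ := TensGen.exists_eq_tmul (he x) (res _ (le_top : W x ≤ ⊤) s)
  obtain ⟨b', hb'⟩ := TensGen.exists_eq_tmul (he x) (res _ (le_top : W x ≤ ⊤) s')
  rw [← app_res, ← app_res, ← app_res, ← app_res, mulE_app s' _ _ b' _ hb', mulE_app s _ _ b _ hb,
    mulE_app s' _ _ b' _ hb', mulE_app s _ _ b _ hb, smul_tmul, smul_tmul, smul_smul, smul_smul,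
    mul_comm]

theorem xOp_comm (hE : PicF.IsInvertible E) (s s' : Γ(CohB1.tensorMod (ClSub.idealMod I) E, ⊤))
    (p : ℕ) : xOp hE s p ≫ xOp hE s' (p + 1) = xOp hE s' p ≫ xOp hE s (p + 1) := by
  have := mono_tI (I ^ (p + 1 + 1)) (isInvertible_tensorPow hE (p + 1 + 1))
  rw [← cancel_mono (tI (I ^ (p + 1 + 1)) (CohB1.tensorPow E (p + 1 + 1))), Category.assoc,
    Category.assoc, xOp_tI, xOp_tI, ← Category.assoc, ← Category.assoc, xOp_tI, xOp_tI,
    Category.assoc, Category.assoc]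
  congr 1
  exact mulE_comm hE s s' (CohB1.tensorPow E p)

theorem xOp_app (hE : PicF.IsInvertible E) (s : Γ(CohB1.tensorMod (ClSub.idealMod I) E, ⊤)) (p : ℕ)
    {U : X.Opens} (α : Γ(ClSub.idealMod (I ^ p), U)) (e : Γ(E, U)) (b : Γ(ClSub.idealMod I, U))
    (hb : res _ le_top s = tmul b e) :
    (tI (I ^ (p + 1)) (CohB1.tensorPow E (p + 1))).app U ((xOp hE s p).app U (tmul α (pow e p))) =
      (val α * val b) • pow e (p + 1) := by
  have h1 := congr(($(xOp_tI hE s p)).app U (tmul α (pow e p)))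
  refine h1.trans ?_
  change (mulP s p).app U ((tI (I ^ p) (CohB1.tensorPow E p)).app U (tmul α (pow e p))) = _
  rw [tI_tmul, mulP_app s p _ b e hb]

/-- The sections of `I` over a small affine open are generated by the coefficients of the global
sections which generate `I ⊗ E`. -/
theorem ideal_le_span {r : ℕ} (s : Fin r → (Coh.structureModule X ⟶ CohB1.tensorMod (ClSub.idealMod I) E))
    (hQ : Coh.IsQCoh (CohB1.tensorMod (ClSub.idealMod I) E))
    (hs : ∀ (Z : X.Modules) (f : CohB1.tensorMod (ClSub.idealMod I) E ⟶ Z), (∀ i, s i ≫ f = 0) → f = 0)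
    {U : X.Opens} (hU : IsAffineOpen U) (e : Γ(E, U)) (he : IsGen e) (b : Fin r → Γ(ClSub.idealMod I, U))
    (hb : ∀ i, sec (s i) U = tmul (b i) e) :
    I.ideal ⟨U, hU⟩ ≤ Ideal.span (Set.range fun i => val (b i)) := by
  intro c hc
  obtain ⟨β, rfl⟩ := (exists_val_iff ⟨U, hU⟩ c).mpr hc
  have h1 := FormalB.GrNoeth.top_le_iSup_range (CurvesB.UnitCoh.isCoh_structureModule X).1 hQ s hs hU
    (show (tmul β e : Γ(CohB1.tensorMod (ClSub.idealMod I) E, U)) ∈ (⊤ : Submodule Γ(X, U) _) from trivial)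
  have h2 : (⨆ i, LinearMap.range (appLinear (s i) U)) ≤
      Submodule.span Γ(X, U) (Set.range fun i => tmul (b i) e) := by
    refine iSup_le fun i => ?_
    rintro _ ⟨a, rfl⟩
    have h0 : (s i).app U a = (show Γ(X, U) from a) • tmul (b i) e :=
      (app_ofFun (s i) (show Γ(X, U) from a)).trans (by rw [hb])
    change (s i).app U a ∈ _
    rw [h0]
    exact Submodule.smul_mem _ _ (Submodule.subset_span ⟨i, rfl⟩)
  have h3 := Submodule.mem_map_of_mem (f := appLinear (tI I E) U) (h2 h1)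
  rw [Submodule.map_span, ← Set.range_comp] at h3
  have h4 : (fun i => (appLinear (tI I E) U) (tmul (b i) e)) =
      (fun a : Γ(X, U) => (LinearMap.toSpanSingleton Γ(X, U) Γ(E, U) e) a) ∘ fun i => val (b i) := by
    funext i
    exact tI_tmul (b i) e
  have h5 : (appLinear (tI I E) U) (tmul β e) = val β • e := tI_tmul β e
  have h6 : (⇑(appLinear (tI I E) U) ∘ fun i => tmul (b i) e) =
      (fun a : Γ(X, U) => (LinearMap.toSpanSingleton Γ(X, U) Γ(E, U) e) a) ∘ fun i => val (b i) := h4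
  rw [h6, h5, Set.range_comp, ← Submodule.map_span] at h3
  obtain ⟨c, hc, hce⟩ := h3
  have h7 : c = val β := he.ext hce
  exact h7 ▸ hc

theorem top_le_xOp (hE : PicF.IsInvertible E) {r : ℕ}
    (s : Fin r → (Coh.structureModule X ⟶ CohB1.tensorMod (ClSub.idealMod I) E))
    (hQ : Coh.IsQCoh (CohB1.tensorMod (ClSub.idealMod I) E))
    (hs : ∀ (Z : X.Modules) (f : CohB1.tensorMod (ClSub.idealMod I) E ⟶ Z), (∀ i, s i ≫ f = 0) → f = 0)
    {U : X.Opens} (hU : IsAffineOpen U) (e : Γ(E, U)) (he : IsGen e) (p : ℕ) :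
    (⊤ : Submodule Γ(X, U) Γ(CohB1.tensorMod (ClSub.idealMod (I ^ (p + 1))) (CohB1.tensorPow E (p + 1)), U)) ≤
      ⨆ i, LinearMap.range (appLinear (xOp hE (sec (s i) ⊤) p) U) := by
  intro z _
  choose b hb using fun i => TensGen.exists_eq_tmul he (sec (s i) U)
  have hspan := ideal_le_span s hQ hs hU e he b hb
  obtain ⟨γ, rfl⟩ := TensGen.exists_eq_tmul (he.pow (p + 1)) z
  have key : ∀ c ∈ (I ^ (p + 1)).ideal ⟨U, hU⟩, ∃ w ∈ ⨆ i, LinearMap.range (appLinear (xOp hE (sec (s i) ⊤) p) U),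
      (tI (I ^ (p + 1)) (CohB1.tensorPow E (p + 1))).app U w = c • pow e (p + 1) := by
    intro c hc
    have h2 : (I ^ (p + 1)).ideal ⟨U, hU⟩ = (I ^ p).ideal ⟨U, hU⟩ * I.ideal ⟨U, hU⟩ := by
      rw [pow_succ]; rfl
    rw [h2] at hc
    refine Submodule.mul_induction_on hc ?_ ?_
    · intro a ha b' hb'
      obtain ⟨α, rfl⟩ := (exists_val_iff ⟨U, hU⟩ a).mpr ha
      have hb'' := hspan hb'
      clear hb' hc
      induction hb'' using Submodule.span_induction with
      | mem x hx =>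
        obtain ⟨i, rfl⟩ := hx
        refine ⟨(xOp hE (sec (s i) ⊤) p).app U (tmul α (pow e p)), Submodule.mem_iSup_of_mem i ⟨_, rfl⟩, ?_⟩
        exact xOp_app hE (sec (s i) ⊤) p α e (b i) (by rw [res_sec]; exact hb i)
      | zero => exact ⟨0, Submodule.zero_mem _, by rw [map_zero, mul_zero, zero_smul]⟩
      | add x y _ _ hx hy =>
        obtain ⟨w, hw, hw'⟩ := hx
        obtain ⟨v, hv, hv'⟩ := hy
        exact ⟨w + v, Submodule.add_mem _ hw hv, by rw [map_add, hw', hv', mul_add, add_smul]⟩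
      | smul t x _ hx =>
        obtain ⟨w, hw, hw'⟩ := hx
        refine ⟨t • w, Submodule.smul_mem _ _ hw, ?_⟩
        rw [Scheme.Modules.Hom.app_smul, hw', smul_smul, smul_eq_mul, mul_left_comm]
    · rintro x y ⟨w, hw, hw'⟩ ⟨v, hv, hv'⟩
      exact ⟨w + v, Submodule.add_mem _ hw hv, by rw [map_add, hw', hv', add_smul]⟩
  obtain ⟨w, hw, hw'⟩ := key _ ((exists_val_iff ⟨U, hU⟩ (val γ)).mp ⟨γ, rfl⟩)
  have h8 : w = tmul γ (pow e (p + 1)) :=
    tI_injective (I ^ (p + 1)) (isInvertible_tensorPow hE (p + 1)) U (hw'.trans (tI_tmul γ _).symm)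
  exact h8 ▸ hw

/-- **The graded family.** -/
theorem exists_gr [IsNoetherian X] (hE : PicF.IsInvertible E)
    (hg : Curv2.IsGloballyGenerated (CohB1.tensorMod (ClSub.idealMod I) E)) :
    ∃ (r : ℕ) (G : Gr X.Modules (Fin r)),
      (∀ p, G.obj p = CohB1.tensorMod (ClSub.idealMod (I ^ p)) (CohB1.tensorPow E p)) ∧ G.Gen := by
  have hJ : Coh.IsCoh (ClSub.idealMod I) := CurvesC.DualDeg.isCoh_idealMod I
  have hJE : Coh.IsCoh (CohB1.tensorMod (ClSub.idealMod I) E) := isCoh_tensorMod hJ hE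
  obtain ⟨r, s, hs⟩ := CohqB.FormalGenB.exists_finite_generating hJE hg
  have hs' : ∀ (Z : X.Modules) (f : CohB1.tensorMod (ClSub.idealMod I) E ⟶ Z),
      (∀ i : Fin r, s ⟨i⟩ ≫ f = 0) → f = 0 := by
    intro Z f hf
    have hs2 : Epi (C := X.Modules) (Sigma.desc s : (∐ fun _ : ULift.{u} (Fin r) => Coh.structureModule X) ⟶ _) := hs
    refine (cancel_epi (C := X.Modules)
      (Sigma.desc s : (∐ fun _ : ULift.{u} (Fin r) => Coh.structureModule X) ⟶ _)).mp ?_
    refine Limits.Sigma.hom_ext _ _ fun i => ?_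
    rw [comp_zero, comp_zero, ← Category.assoc, Sigma.ι_desc]
    exact hf i.down
  refine ⟨r, { obj := fun p => CohB1.tensorMod (ClSub.idealMod (I ^ p)) (CohB1.tensorPow E p)
               x := fun i p => xOp hE (sec (s ⟨i⟩) ⊤) p
               comm := fun i j p => xOp_comm hE _ _ p }, fun _ => rfl, 0, fun p _ Z f hf => ?_⟩
  refine FormalB.GrNoeth.joint_epi_of_cover (isCoh_tensorMod (CurvesC.DualDeg.isCoh_idealMod _)
    (isInvertible_tensorPow hE (p + 1))).1 (fun i : Fin r => xOp hE (sec (s ⟨i⟩) ⊤) p) (fun x => ?_) Z f hf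
  obtain ⟨U, e, hxU, -, hU, he⟩ := TensGen.exists_affine_gen hE x (V := ⊤) trivial
  exact ⟨U, hxU, hU, top_le_xOp hE (fun i => s ⟨i⟩) hJE.1 hs' hU e he p⟩

/-- **Uniform vanishing for powers of an ideal sheaf.** -/
theorem uniform_ideal {R : Type u} [CommRing R] [IsNoetherianRing R]
    (f : X ⟶ Spec (CommRingCat.of R)) [IsProper f] {L : X.Modules}
    (hL : PicF.IsInvertible L) (hA : CohB1.IsAmple L) (hE : PicF.IsInvertible E)
    (hg : Curv2.IsGloballyGenerated (CohB1.tensorMod (ClSub.idealMod I) E)) :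
    ∃ e₀ : ℕ, ∀ e, e₀ ≤ e → ∀ p q : ℕ, 0 < q →
      Subsingleton (Coh.HH X (CohB1.tensorMod (CohB1.tensorMod (ClSub.idealMod (I ^ p)) (CohB1.tensorPow E p))
        (CohB1.tensorPow L e)) q) := by
  have hN : IsLocallyNoetherian X := LocallyOfFiniteType.isLocallyNoetherian f
  have hc : CompactSpace X := QuasiCompact.compactSpace_of_compactSpace f
  have : IsNoetherian X := ⟨⟩
  obtain ⟨r, G, hG, hgen⟩ := exists_gr (I := I) hE hg
  obtain ⟨e₀, h⟩ := UnifVanish.uniform_vanishing f hL hA G (fun p => by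
    rw [hG]
    exact isCoh_tensorMod (CurvesC.DualDeg.isCoh_idealMod _) (isInvertible_tensorPow hE p)) hgen
  refine ⟨e₀, fun e he p q hq => ?_⟩
  rw [← hG]
  exact h e he p q hq

end op

end K422.PowTwist
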