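import Groth.Agent.CohqB.VanTw
import Groth.Agent.FormalB.GrCoh
import Groth.Agent.S0051

/-!
# Uniform Serre vanishing for graded families of coherent modules

`uniform`: abstract form, for a property `P e` of the objects of an abelian category which holds for `e ≥ e₀(M)`,
is stable under extensions and under quotients by subobjects with `P e`; then it holds for `e ≥ e₀`
uniformly for all terms of a family `G : Gr C (Fin r)` which is eventually generated by its operators.

`uniform_vanishing`: `X` proper over a Noetherian ring, `L` ample invertible, `G : Gr X.Modules (Fin r)` coherent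
and eventually generated: `H^p(X, G_n ⊗ L^e) = 0` for all `p > 0`, `e ≥ e₀` and ALL `n`.
-/

set_option autoImplicit false
universe w v u

open CategoryTheory CategoryTheory.Limits AlgebraicGeometry Opposite TopologicalSpace

namespace K422.UnifVanish

open Groth.Agent Groth.Agent.FormalB.GrAbs

section abstract

variable {C : Type u} [Category.{v} C] [Abelian C]

omit [Category.{v} C] [Abelian C] in
theorem uniform_le (P : ℕ → C → Prop) (G : ℕ → C) (h : ∀ n, ∃ e₀ : ℕ, ∀ e, e₀ ≤ e → P e (G n)) (N : ℕ) :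
    ∃ e₀ : ℕ, ∀ e, e₀ ≤ e → ∀ n, n ≤ N → P e (G n) := by
  induction N with
  | zero =>
    obtain ⟨e₀, h₀⟩ := h 0
    exact ⟨e₀, fun e he n hn => by obtain rfl : n = 0 := by omega
                                   exact h₀ e he⟩
  | succ N ih =>
    obtain ⟨e₁, h₁⟩ := ih
    obtain ⟨e₂, h₂⟩ := h (N + 1)
    refine ⟨max e₁ e₂, fun e he n hn => ?_⟩
    rcases Nat.lt_or_ge n (N + 1) with h | h
    · exact h₁ e (le_trans (le_max_left _ _) he) n (by omega)
    · obtain rfl : n = N + 1 := by omega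
      exact h₂ e (le_trans (le_max_right _ _) he)

theorem uniform (Q : C → Prop) (P : ℕ → C → Prop)
    (hker : ∀ {X Y : C} (f : X ⟶ Y), Q X → Q Y → Q (kernel f))
    (hcoker : ∀ {X Y : C} (f : X ⟶ Y), Q X → Q Y → Q (cokernel f))
    (hnoeth : ∀ (r : ℕ) (G : Gr C (Fin (r + 1))), (∀ n, Q (G.obj n)) → G.Gen → G.ker.Gen)
    (hev : ∀ M, Q M → ∃ e₀ : ℕ, ∀ e, e₀ ≤ e → P e M)
    (hzero : ∀ e M, IsZero M → P e M)
    (hmid : ∀ e (S : ShortComplex C), S.ShortExact → P e S.X₁ → P e S.X₃ → P e S.X₂)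
    (hright : ∀ e (S : ShortComplex C), S.ShortExact → P e S.X₁ → P e S.X₂ → P e S.X₃) :
    ∀ (r : ℕ) (G : Gr C (Fin r)), (∀ n, Q (G.obj n)) → G.Gen →
      ∃ e₀ : ℕ, ∀ e, e₀ ≤ e → ∀ n, P e (G.obj n) := by
  intro r
  induction r with
  | zero =>
    intro G hQ hG
    obtain ⟨n₀, h⟩ := hG
    obtain ⟨e₀, he₀⟩ := uniform_le P G.obj (fun n => hev _ (hQ n)) n₀
    refine ⟨e₀, fun e he n => ?_⟩
    rcases Nat.lt_or_ge n₀ n with hn | hn
    · obtain ⟨m, rfl⟩ : ∃ m, n = m + 1 := ⟨n - 1, by omega⟩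
      have h1 : 𝟙 (G.obj (m + 1)) = 0 := h m (by omega) _ _ (fun i => i.elim0)
      exact hzero e _ ((IsZero.iff_id_eq_zero _).mpr h1)
    · exact he₀ e he n hn
  | succ r ih =>
    intro G hQ hG
    obtain ⟨e₁, h₁⟩ := ih G.ker (fun n => hker _ (hQ n) (hQ (n + 1))) (hnoeth r G hQ hG)
    obtain ⟨e₂, h₂⟩ := ih G.coker (fun n => hcoker _ (hQ n) (hQ (n + 1))) (G.gen_coker hG)
    obtain ⟨e₃, h₃⟩ := hev _ (hQ 0)
    refine ⟨max e₁ (max e₂ e₃), fun e he n => ?_⟩
    have he₁ : e₁ ≤ e := le_trans (le_max_left _ _) he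
    have he₂ : e₂ ≤ e := le_trans (le_trans (le_max_left _ _) (le_max_right _ _)) he
    have he₃ : e₃ ≤ e := le_trans (le_trans (le_max_right _ _) (le_max_right _ _)) he
    induction n with
    | zero => exact h₃ e he₃
    | succ n ihn =>
      have hI : P e (G.im n) := hright e (G.ses₁ n) (G.ses₁_shortExact n) (h₁ e he₁ n) ihn
      exact hmid e (G.ses₂ n) (G.ses₂_shortExact n) hI (h₂ e he₂ n)

end abstract

section scheme

open Groth.Agent.CohqB.LocBaseHH Groth.Agent.CohqB.SerTw Groth.Agent.CohqB.VanTw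

/-- **Uniform Serre vanishing.** -/
theorem uniform_vanishing {R : Type u} [CommRing R] [IsNoetherianRing R]
    {X : Scheme.{u}} (f : X ⟶ Spec (CommRingCat.of R)) [IsProper f] {L : X.Modules}
    (hL : PicF.IsInvertible L) (hA : CohB1.IsAmple L) {r : ℕ} (G : Gr X.Modules (Fin r))
    (hG : ∀ n, Coh.IsCoh (G.obj n)) (hgen : G.Gen) :
    ∃ e₀ : ℕ, ∀ e, e₀ ≤ e → ∀ n p : ℕ, 0 < p →
      Subsingleton (Coh.HH X (CohB1.tensorMod (G.obj n) (CohB1.tensorPow L e)) p) := by
  have hN : IsLocallyNoetherian X := LocallyOfFiniteType.isLocallyNoetherian f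
  have hc : CompactSpace X := QuasiCompact.compactSpace_of_compactSpace f
  have : IsNoetherian X := ⟨⟩
  have hinv : ∀ e, PicF.IsInvertible (CohB1.tensorPow L e) := fun e =>
    Fdesc.LocGen.isInvertible_tensorPow hL e
  refine uniform (fun M => Coh.IsCoh M) (fun e M => ∀ p : ℕ, 0 < p →
      Subsingleton (Coh.HH X (CohB1.tensorMod M (CohB1.tensorPow L e)) p))
    (fun f hM hN => FormalB.FormalLoc.isCoh_kernel f hM hN.1)
    (fun f hM hN => FormalB.FormalLoc.isCoh_cokernel f hM.1 hN)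
    (fun r G hG hgen => FormalB.GrNoeth.gen_ker r G hG hgen)
    (fun M hM => (Groth.Agent.S0051.result R X f L hL).mp hA M hM)
    (fun e M hM p _ => subsingleton_of_isZero ((tw (CohB1.tensorPow L e)).map_isZero hM) p)
    (fun e S hS h₁ h₃ p hp => subsingleton_middle (shortExact_tw (hinv e) hS) p (h₁ p hp) (h₃ p hp))
    (fun e S hS h₁ h₂ p hp => ?_) r G hG hgen
  have hsurj := hmap_surjective_of_next_subsingleton (shortExact_tw (hinv e) hS) p
    (h₁ (p + 1) (Nat.succ_pos p))
  have := h₂ p hp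
  refine subsingleton_of_forall_eq 0 fun x => ?_
  obtain ⟨y, rfl⟩ := hsurj x
  rw [show y = 0 from Subsingleton.elim (h := this) _ _]
  exact map_zero (hmap (S.map (tw (CohB1.tensorPow L e))).g p)

end scheme

end K422.UnifVanish
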